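import Mathlib
import Groth.Prelude
import Groth.Agent.Lib.Helper7.ImpDesc.Fibre
import Groth.Agent.Lib.Helper7.ImpDesc.ClosedPt
import Groth.Agent.Lib.Helper7.OneStep.Loc2
import Groth.Agent.Lib.Helper7.FibSupp.Main
import Groth.Agent.Lib.Helper7.PureSurj.Main
import Groth.Agent.Lib.Helper8.GSF1

/-!
# helper7: purity with finite fibre supports means finite scheme-theoretic support

For a finite type quasi-finite `A`-algebra `C` and a finite faithful `C`-module `N` which is pure
relative to `A`, the algebra `C` is finite over `A`: otherwise, by Zariski's main theorem, some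
finite subalgebra would have a point missing from `Spec C`, and the etale local structure of finite
algebras at that point produces an impurity.
-/

set_option linter.style.haveILetI false
set_option linter.unusedVariables false
set_option linter.unusedSectionVars false
set_option autoImplicit false
set_option backward.isDefEq.respectTransparency.types false
set_option synthInstance.maxHeartbeats 400000
set_option maxHeartbeats 1600000

universe u

open TensorProduct

namespace Groth.Agent.Helper7.QFPure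

attribute [local instance] Algebra.TensorProduct.rightAlgebra

open Groth.Agent.Helper7.ImpDesc

/-- an associated point of a fibre below a given point of the support -/
theorem exists_ass_le {R' C' : Type u} [CommRing R'] [CommRing C'] [Algebra R' C']
    [Algebra.FiniteType R' C'] (N' : Type u) [AddCommGroup N'] [Module C' N'] [Module R' N']
    [IsScalarTower R' C' N'] [Module.Finite C' N'] (η' : Ideal C') [η'.IsPrime]
    (hη : Module.annihilator C' N' ≤ η') (t' : Ideal R') [t'.IsPrime] [η'.LiesOver t'] :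
    ∃ P₀ : Ideal C', P₀.IsPrime ∧ P₀.LiesOver t' ∧ P₀ ≤ η' ∧
      FlatCA.fiberIdeal t' P₀ ∈ associatedPrimes (t'.Fiber C') (FlatCA.fiberMod t' C' N') := by
  obtain ⟨hHprime, hHmem⟩ := Groth.Agent.Helper8.GSF.fiberIdeal_isPrime_and_mem_iff t' η'
  haveI := hHprime
  haveI : IsNoetherianRing (t'.Fiber C') := Algebra.FiniteType.isNoetherianRing t'.ResidueField _
  haveI : Module.Finite (t'.Fiber C') ((t'.Fiber C') ⊗[C'] N') :=
    Module.Finite.base_change C' (t'.Fiber C') N'
  have hcomap : ∀ b : C', algebraMap C' (t'.Fiber C') b =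
      ((1 : t'.ResidueField) ⊗ₜ[R'] b : t'.Fiber C') := fun b => rfl
  have hsupp : (⟨FlatCA.fiberIdeal t' η', hHprime⟩ : PrimeSpectrum (t'.Fiber C')) ∈
      Module.support (t'.Fiber C') ((t'.Fiber C') ⊗[C'] N') := by
    rw [Groth.Agent.Helper7.FibSupp.mem_support_baseChange_iff]
    intro b hb
    rw [Ideal.mem_comap, hcomap, hHmem]
    exact hη hb
  have hannle : Module.annihilator (t'.Fiber C') ((t'.Fiber C') ⊗[C'] N') ≤
      FlatCA.fiberIdeal t' η' := Module.annihilator_le_of_mem_support hsupp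
  obtain ⟨Q₀, hQ₀min, hQ₀le⟩ := Ideal.exists_minimalPrimes_le hannle
  have hQ₀ass : Q₀ ∈ associatedPrimes (t'.Fiber C') ((t'.Fiber C') ⊗[C'] N') :=
    Module.associatedPrimes.minimalPrimes_annihilator_subset_associatedPrimes _ _ hQ₀min
  haveI hQ₀prime : Q₀.IsPrime := hQ₀min.1.1
  refine ⟨Q₀.comap (Algebra.TensorProduct.includeRight (R := R') (A := t'.ResidueField)
    (B := C')).toRingHom, Ideal.comap_isPrime _ _, comap_fibre_liesOver t' Q₀, ?_, ?_⟩
  · intro b hb
    rw [← hHmem]
    exact hQ₀le hb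
  · have h1 := Groth.Agent.Helper7.OneStep.asIdeal_eq_map_comap t'
      (⟨Q₀, hQ₀prime⟩ : PrimeSpectrum (t'.Fiber C'))
    have h2 : FlatCA.fiberIdeal t' (Q₀.comap (Algebra.TensorProduct.includeRight (R := R')
        (A := t'.ResidueField) (B := C')).toRingHom) = Q₀ := h1.symm
    rw [h2]
    exact hQ₀ass

/-- **Key step**: elements of a finite subalgebra generating the unit ideal upstairs generate it
in the subalgebra, when the module is pure with full support. -/
theorem span_eq_top_of_isPure {A C : Type u} [CommRing A] [CommRing C] [Algebra A C]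
    [Algebra.FiniteType A C] (N : Type u) [AddCommGroup N] [Module C N] [Module.Finite C N]
    (hann : Module.annihilator C N = ⊥) (hpure : FlatCA.IsPure A C N)
    (C₀ : Subalgebra A C) [Module.Finite A C₀] (s : Set C₀)
    (hs : Ideal.span ((fun x : C₀ => (x : C)) '' s) = ⊤) : Ideal.span s = ⊤ := by
  by_contra hne
  obtain ⟨Q, hQmax, hsQ⟩ := Ideal.exists_le_maximal _ hne
  haveI hQprime : Q.IsPrime := hQmax.isPrime
  obtain ⟨p, hp⟩ : ∃ p : Ideal A, p = Q.under A := ⟨_, rfl⟩
  haveI hpprime : p.IsPrime := by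
    rw [hp]
    infer_instance
  haveI hQp : Q.LiesOver p := ⟨hp⟩
  obtain ⟨R', _, _, hét, P, hPprime, hPover, e, he, Q', hQ'prime, hQ'over, hQ'comap, heQ', hbij,
    hfin, huniq⟩ := Algebra.exists_etale_isIdempotentElem_forall_liesOver_eq (R := A) (S := C₀) p Q
  haveI := hét
  haveI := hPprime
  haveI := hPover
  haveI := hQ'prime
  haveI := hQ'over
  obtain ⟨ι, hιdef⟩ : ∃ ι : R' ⊗[A] C₀ →ₐ[R'] R' ⊗[A] C,
      ι = Algebra.TensorProduct.map (AlgHom.id R' R') C₀.val := ⟨_, rfl⟩
  have hιtmul : ∀ (r : R') (c : C₀), ι (r ⊗ₜ[A] c) = r ⊗ₜ[A] (c : C) := by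
    intro r c
    rw [hιdef, Algebra.TensorProduct.map_tmul]
    rfl
  have hιinj : Function.Injective ι := by
    have h1 := Module.Flat.lTensor_preserves_injective_linearMap (M := R') C₀.val.toLinearMap
      (by exact Subtype.val_injective)
    have h2 : ∀ z, ι z = (LinearMap.lTensor R' C₀.val.toLinearMap) z := by
      intro z
      induction z using TensorProduct.induction_on with
      | zero => rw [map_zero, map_zero]
      | tmul a b =>
        rw [hιtmul, LinearMap.lTensor_tmul]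
        rfl
      | add x y hx hy => rw [map_add, map_add, hx, hy]
    intro x y hxy
    apply h1
    rw [← h2, ← h2, hxy]
  obtain ⟨η, hηmin, hηle⟩ :=
    Ideal.exists_minimalPrimes_le (bot_le : (⊥ : Ideal (R' ⊗[A] C₀)) ≤ Q')
  obtain ⟨η', hη'prime, hη'comap⟩ :=
    Ideal.exists_comap_eq_of_mem_minimalPrimes_of_injective (f := ι.toRingHom) hιinj η hηmin
  haveI := hη'prime
  obtain ⟨t', ht'⟩ : ∃ t' : Ideal R', t' = η'.comap (algebraMap R' (R' ⊗[A] C)) := ⟨_, rfl⟩
  haveI ht'prime : t'.IsPrime := by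
    rw [ht']
    exact Ideal.comap_isPrime _ _
  haveI hη't' : η'.LiesOver t' := ⟨ht'⟩
  have hη'supp : Module.annihilator (R' ⊗[A] C) ((R' ⊗[A] C) ⊗[C] N) ≤ η' := by
    have h1 : (⟨η', hη'prime⟩ : PrimeSpectrum (R' ⊗[A] C)) ∈
        Module.support (R' ⊗[A] C) ((R' ⊗[A] C) ⊗[C] N) := by
      rw [Groth.Agent.Helper7.FibSupp.mem_support_baseChange_iff, hann]
      exact bot_le
    exact Module.annihilator_le_of_mem_support h1
  haveI : Module.Finite (R' ⊗[A] C) ((R' ⊗[A] C) ⊗[C] N) :=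
    Module.Finite.base_change C (R' ⊗[A] C) N
  obtain ⟨P₀, hP₀prime, hP₀over, hP₀le, hP₀ass⟩ :=
    exists_ass_le ((R' ⊗[A] C) ⊗[C] N) η' hη'supp t'
  haveI := hP₀prime
  have heη : e ∉ η := fun h => heQ' (hηle h)
  have he'η' : ι e ∉ η' := by
    intro h
    apply heη
    rw [← hη'comap]
    exact Ideal.mem_comap.mpr h
  have he'P₀ : ι e ∉ P₀ := fun h => he'η' (hP₀le h)
  have hidem : ι e * (1 - ι e) = 0 := by
    rw [mul_sub, mul_one, ← map_mul, he.eq, sub_self]
  have h1e : (1 - ι e) ∈ P₀ :=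
    (hP₀prime.mem_or_mem (by rw [hidem]; exact P₀.zero_mem)).resolve_left he'P₀
  have ht'P : t' ≤ P := by
    intro a ha
    rw [ht', Ideal.mem_comap] at ha
    have h1 : algebraMap R' (R' ⊗[A] C₀) a ∈ η := by
      rw [← hη'comap, Ideal.mem_comap]
      show ι (algebraMap R' (R' ⊗[A] C₀) a) ∈ η'
      rw [ι.commutes]
      exact ha
    have h2 := hηle h1
    rw [hQ'over.over]
    exact h2
  have himp : FlatCA.IsImpurity A C N p R' (R' ⊗[A] C) ((R' ⊗[A] C) ⊗[C] N)
      (TensorProduct.mk C (R' ⊗[A] C) N 1) t' P P₀ := by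
    refine ⟨inferInstance, TensorProduct.isBaseChange C N (R' ⊗[A] C), ht'P, hPover, hP₀over,
      hP₀ass, ?_⟩
    intro P'' hP''prime hle hov
    have h1 : (1 - ι e) ∈ P'' := hle h1e
    have h2 : ι e ∉ P'' := fun h => hP''prime.ne_top ((Ideal.eq_top_iff_one _).mpr (by
      have h3 := P''.add_mem h h1
      rwa [add_sub_cancel] at h3))
    haveI hP₁prime : (P''.comap ι.toRingHom).IsPrime := Ideal.comap_isPrime _ _
    have hP₁over : (P''.comap ι.toRingHom).LiesOver P := by
      constructor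
      rw [hov.over]
      ext a
      rw [Ideal.under_def, Ideal.under_def, Ideal.mem_comap, Ideal.mem_comap, Ideal.mem_comap]
      show algebraMap R' (R' ⊗[A] C) a ∈ P'' ↔ ι (algebraMap R' (R' ⊗[A] C₀) a) ∈ P''
      rw [ι.commutes]
    have hP₁e : e ∉ P''.comap ι.toRingHom := fun h => h2 (Ideal.mem_comap.mp h)
    have hP₁ : P''.comap ι.toRingHom = Q' := huniq _ hP₁prime hP₁over hP₁e
    have hsub : ∀ x ∈ s, algebraMap C (R' ⊗[A] C) (x : C) ∈ P'' := by
      intro x hx
      have hxQ : x ∈ Q := hsQ (Ideal.subset_span hx)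
      have hxQ' : ((1 : R') ⊗ₜ[A] x : R' ⊗[A] C₀) ∈ Q' := by
        rw [← hQ'comap] at hxQ
        exact hxQ
      rw [← hP₁, Ideal.mem_comap] at hxQ'
      have h4 := hιtmul 1 x
      change ι ((1 : R') ⊗ₜ[A] x) ∈ P'' at hxQ'
      rw [h4] at hxQ'
      exact hxQ'
    have htop : P''.comap (algebraMap C (R' ⊗[A] C)) = ⊤ := by
      rw [eq_top_iff, ← hs, Ideal.span_le]
      rintro _ ⟨x, hx, rfl⟩
      exact hsub x hx
    exact hP''prime.ne_top ((Ideal.eq_top_iff_one _).mpr (by
      have h3 : (1 : C) ∈ P''.comap (algebraMap C (R' ⊗[A] C)) := by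
        rw [htop]
        trivial
      rw [Ideal.mem_comap, map_one] at h3
      exact h3))
  have hnhd : FlatCA.IsEtaleNhd A R' p P := ⟨hét, hPover, hbij⟩
  exact hpure p R' (R' ⊗[A] C) ((R' ⊗[A] C) ⊗[C] N) (TensorProduct.mk C (R' ⊗[A] C) N 1) t' P P₀
    hnhd himp

/-- **Integrality** of a quasi-finite algebra carrying a pure faithful finite module. -/
theorem isIntegral_of_isPure {A C : Type u} [CommRing A] [CommRing C] [Algebra A C]
    [Algebra.FiniteType A C] [Algebra.QuasiFinite A C] (N : Type u) [AddCommGroup N] [Module C N]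
    [Module.Finite C N] (hann : Module.annihilator C N = ⊥) (hpure : FlatCA.IsPure A C N) :
    Algebra.IsIntegral A C := by
  classical
  obtain ⟨T, hT⟩ : ∃ T : Set C,
      T = {r : C | IsIntegral A r ∧ ∀ x : C, ∃ m : ℕ, IsIntegral A (r ^ m * x)} := ⟨_, rfl⟩
  have hTtop : Ideal.span T = ⊤ := by
    by_contra hne
    obtain ⟨q, hqmax, hTq⟩ := Ideal.exists_le_maximal _ hne
    haveI : q.IsPrime := hqmax.isPrime
    obtain ⟨r, hrq, hr1, hr2⟩ := Algebra.zariskisMainProperty_iff.mp
      (Algebra.ZariskisMainProperty.of_finiteType (R := A) q)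
    exact hrq (hTq (Ideal.subset_span (by rw [hT]; exact ⟨hr1, hr2⟩)))
  obtain ⟨T', hT'sub, hT'top⟩ := (Ideal.span_eq_top_iff_finite T).mp hTtop
  refine ⟨fun x => ?_⟩
  have hex : ∀ r ∈ T', ∃ m : ℕ, IsIntegral A (r ^ m * x) := fun r hr => by
    have h1 := hT'sub hr
    rw [hT] at h1
    exact h1.2 x
  choose! mf hmf using hex
  obtain ⟨m, hm⟩ : ∃ m : ℕ, ∀ r ∈ T', mf r ≤ m := ⟨T'.sup mf, fun r hr => Finset.le_sup hr⟩
  have hint_r : ∀ r ∈ T', IsIntegral A r := fun r hr => by
    have h1 := hT'sub hr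
    rw [hT] at h1
    exact h1.1
  have hint_rx : ∀ r ∈ T', IsIntegral A (r ^ m * x) := by
    intro r hr
    have e : r ^ m * x = r ^ (m - mf r) * (r ^ mf r * x) := by
      rw [← mul_assoc, ← pow_add, Nat.sub_add_cancel (hm r hr)]
    rw [e]
    exact ((hint_r r hr).pow _).mul (hmf r hr)
  obtain ⟨G, hG⟩ : ∃ G : Set C, G = (T' : Set C) ∪ (fun r => r ^ m * x) '' (T' : Set C) :=
    ⟨_, rfl⟩
  have hGfin : G.Finite := by
    rw [hG]
    exact T'.finite_toSet.union (T'.finite_toSet.image _)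
  have hGint : ∀ y ∈ G, IsIntegral A y := by
    intro y hy
    rw [hG] at hy
    rcases hy with hy | ⟨r, hr, rfl⟩
    · exact hint_r y hy
    · exact hint_rx r hr
  obtain ⟨C₀, hC₀⟩ : ∃ C₀ : Subalgebra A C, C₀ = Algebra.adjoin A G := ⟨_, rfl⟩
  have hfg : C₀.toSubmodule.FG := by
    rw [hC₀]
    exact fg_adjoin_of_finite hGfin hGint
  haveI : Module.Finite A C₀ := ⟨(Submodule.fg_top _).mpr hfg⟩
  have hGC₀ : ∀ y ∈ G, y ∈ C₀ := fun y hy => by
    rw [hC₀]
    exact Algebra.subset_adjoin hy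
  obtain ⟨s, hsdef⟩ : ∃ s : Set C₀, s = {y : C₀ | (y : C) ∈ T'} := ⟨_, rfl⟩
  have himage : (fun y : C₀ => (y : C)) '' s = (T' : Set C) := by
    ext c
    constructor
    · rintro ⟨y, hy, rfl⟩
      rw [hsdef] at hy
      exact hy
    · intro hc
      exact ⟨⟨c, hGC₀ c (by rw [hG]; exact Or.inl hc)⟩, by rw [hsdef]; exact hc, rfl⟩
  have hstop : Ideal.span s = ⊤ :=
    span_eq_top_of_isPure N hann hpure C₀ s (by rw [himage]; exact hT'top)
  have hpow := Ideal.span_pow_eq_top s hstop m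
  have hone : (1 : C₀) ∈ Ideal.span ((fun y : C₀ => y ^ m) '' s) := by
    rw [hpow]
    trivial
  have key : ∀ b ∈ Ideal.span ((fun y : C₀ => y ^ m) '' s), (b : C) * x ∈ C₀ := by
    intro b hb
    refine Submodule.span_induction (p := fun (b : C₀) _ => ((b : C₀) : C) * x ∈ C₀) ?_ ?_ ?_ ?_ hb
    · rintro _ ⟨y, hy, rfl⟩
      rw [hsdef] at hy
      show ((y ^ m : C₀) : C) * x ∈ C₀
      rw [Subalgebra.coe_pow]
      exact hGC₀ _ (by rw [hG]; exact Or.inr ⟨(y : C), hy, rfl⟩)
    · show ((0 : C₀) : C) * x ∈ C₀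
      rw [Subalgebra.coe_zero, zero_mul]
      exact C₀.zero_mem
    · intro b₁ b₂ _ _ h₁ h₂
      show ((b₁ + b₂ : C₀) : C) * x ∈ C₀
      rw [Subalgebra.coe_add, add_mul]
      exact C₀.add_mem h₁ h₂
    · intro c b _ hb
      show ((c • b : C₀) : C) * x ∈ C₀
      rw [smul_eq_mul, Subalgebra.coe_mul, mul_assoc]
      exact C₀.mul_mem c.2 hb
  have hx : x ∈ C₀ := by
    have h1 := key 1 hone
    rwa [Subalgebra.coe_one, one_mul] at h1
  exact IsIntegral.of_mem_of_fg C₀ hfg x hx

end Groth.Agent.Helper7.QFPure
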