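import Mathlib
import Groth.Prelude
import Groth.Agent.Lib.Helper7.QFPure.Main

/-!
# helper7: purity, finiteness of the support and universal purity for finite fibre supports
-/

set_option linter.style.haveILetI false
set_option linter.unusedVariables false
set_option linter.unusedSectionVars false
set_option autoImplicit false
set_option backward.isDefEq.respectTransparency.types false
set_option synthInstance.maxHeartbeats 400000
set_option maxHeartbeats 1600000

universe u

open TensorProduct

namespace Groth.Agent.Helper7.QFPure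

attribute [local instance] Algebra.TensorProduct.rightAlgebra

/-- modules over an integral algebra are universally pure: going up -/
theorem isUnivPureAlong_of_isIntegral {A C : Type u} [CommRing A] [CommRing C] [Algebra A C]
    [Algebra.IsIntegral A C] (N : Type u) [AddCommGroup N] [Module C N] (p : Ideal A)
    [p.IsPrime] : FlatCA.IsUnivPureAlong A C N p := by
  intro A' C' N' _ _ _ _ _ _ _ _ _ _ _ _ _ _ f t' t _ _ P _ himp
  obtain ⟨hpo, hbc, hle, htp, hPt', hass, hcl⟩ := himp
  haveI := hpo
  haveI : Algebra.IsIntegral A' C' := Algebra.IsPushout.isIntegral A A' C C'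
  have h1 : P.comap (algebraMap A' C') ≤ t := by
    have h2 := hPt'.over
    rw [← Ideal.under_def, ← h2]
    exact hle
  obtain ⟨Q, hQge, hQprime, hQcomap⟩ := Ideal.exists_ideal_over_prime_of_isIntegral t P h1
  haveI := hQprime
  exact hcl Q hQge ⟨hQcomap.symm⟩

/-- finite fibre supports make the scheme-theoretic support quasi-finite -/
theorem quasiFinite_quotient_annihilator {A B : Type u} [CommRing A] [CommRing B] [Algebra A B]
    [Algebra.FiniteType A B] (N : Type u) [AddCommGroup N] [Module B N] [Module A N]
    [IsScalarTower A B N] [Module.Finite B N]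
    (hfin : ∀ (p : Ideal A) [p.IsPrime],
      (Module.support (p.Fiber B) (FlatCA.fiberMod p B N)).Finite) :
    Algebra.QuasiFinite A (B ⧸ Module.annihilator B N) := by
  haveI : Algebra.FiniteType A (B ⧸ Module.annihilator B N) :=
    Algebra.FiniteType.of_surjective
      (Ideal.Quotient.mkₐ A (Module.annihilator B N)) (Ideal.Quotient.mkₐ_surjective A _)
  rw [Algebra.QuasiFinite.iff_finite_primesOver]
  intro p hp
  haveI := hp
  refine ((hfin p).image (fun x : PrimeSpectrum (p.Fiber B) =>
    (x.asIdeal.comap (algebraMap B (p.Fiber B))).map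
      (Ideal.Quotient.mk (Module.annihilator B N)))).subset ?_
  rintro Pc ⟨hPcprime, hPcover⟩
  haveI := hPcprime
  obtain ⟨q, hq⟩ : ∃ q : Ideal B,
      q = Pc.comap (Ideal.Quotient.mk (Module.annihilator B N)) := ⟨_, rfl⟩
  haveI hqprime : q.IsPrime := by
    rw [hq]
    exact Ideal.comap_isPrime _ _
  haveI hqover : q.LiesOver p := by
    constructor
    rw [hPcover.over, hq, Ideal.under_def, Ideal.under_def, Ideal.comap_comap]
    rfl
  obtain ⟨hHprime, hHmem⟩ := Groth.Agent.Helper8.GSF.fiberIdeal_isPrime_and_mem_iff p q
  have hcomap : (FlatCA.fiberIdeal p q).comap (algebraMap B (p.Fiber B)) = q := by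
    ext b
    rw [Ideal.mem_comap]
    exact hHmem b
  refine ⟨⟨FlatCA.fiberIdeal p q, hHprime⟩, ?_, ?_⟩
  · show _ ∈ Module.support (p.Fiber B) ((p.Fiber B) ⊗[B] N)
    rw [Groth.Agent.Helper7.FibSupp.mem_support_baseChange_iff, hcomap, hq]
    intro b hb
    rw [Ideal.mem_comap, Ideal.Quotient.eq_zero_iff_mem.mpr hb]
    exact Pc.zero_mem
  · show ((FlatCA.fiberIdeal p q).comap (algebraMap B (p.Fiber B))).map _ = Pc
    rw [hcomap, hq]
    exact Ideal.map_comap_of_surjective _ Ideal.Quotient.mk_surjective Pc

/-- **Purity, finiteness of the support and universal purity** for finite fibre supports. -/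
theorem main_S1222 {A B : Type u} [CommRing A] [CommRing B] [Algebra A B]
    [Algebra.FiniteType A B] (N : Type u) [AddCommGroup N] [Module B N] [Module A N]
    [IsScalarTower A B N] [Module.Finite B N]
    (hfin : ∀ (p : Ideal A) [p.IsPrime],
      (Module.support (p.Fiber B) (FlatCA.fiberMod p B N)).Finite) :
    [FlatCA.IsPure A B N, Module.Finite A (B ⧸ Module.annihilator B N),
      FlatCA.IsUnivPure A B N].TFAE := by
  letI mC : Module (B ⧸ Module.annihilator B N) N := Module.quotientAnnihilator
  haveI tBCN : IsScalarTower B (B ⧸ Module.annihilator B N) N := ⟨fun b c x => by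
    obtain ⟨c₀, rfl⟩ := Ideal.Quotient.mk_surjective c
    show (Ideal.Quotient.mk _ (b * c₀)) • x = b • ((Ideal.Quotient.mk _ c₀) • x)
    show (b * c₀) • x = b • (c₀ • x)
    exact mul_smul b c₀ x⟩
  have hBC : Function.Surjective (algebraMap B (B ⧸ Module.annihilator B N)) :=
    Ideal.Quotient.mk_surjective
  haveI : Algebra.FiniteType A (B ⧸ Module.annihilator B N) :=
    Algebra.FiniteType.of_surjective
      (Ideal.Quotient.mkₐ A (Module.annihilator B N)) (Ideal.Quotient.mkₐ_surjective A _)
  haveI : Module.Finite (B ⧸ Module.annihilator B N) N :=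
    Module.Finite.of_restrictScalars_finite B _ N
  have hann : Module.annihilator (B ⧸ Module.annihilator B N) N = ⊥ := by
    rw [eq_bot_iff]
    intro c hc
    obtain ⟨c₀, rfl⟩ := Ideal.Quotient.mk_surjective c
    rw [Ideal.mem_bot, Ideal.Quotient.eq_zero_iff_mem, Module.mem_annihilator]
    intro x
    exact (Module.mem_annihilator.mp hc) x
  tfae_have 1 → 2 := by
    intro hpure
    haveI := quasiFinite_quotient_annihilator N hfin
    have hpureC : FlatCA.IsPure A (B ⧸ Module.annihilator B N) N := fun p _ =>
      ((Groth.Agent.Helper7.PureSurj.main_S8999 hBC N p).1).mpr (hpure p)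
    haveI := isIntegral_of_isPure N hann hpureC
    exact Algebra.IsIntegral.finite
  tfae_have 2 → 3 := by
    intro hfinC p _
    haveI := hfinC
    haveI : Algebra.IsIntegral A (B ⧸ Module.annihilator B N) := Algebra.IsIntegral.of_finite A _
    exact ((Groth.Agent.Helper7.PureSurj.main_S8999 hBC N p).2).mp
      (isUnivPureAlong_of_isIntegral N p)
  tfae_have 3 → 1 := by
    intro h p _ A' B' N' _ _ _ _ _ _ _ _ _ _ _ _ _ _ f t' t _ _ P _ _ himp
    exact h p A' B' N' f t' t P himp
  tfae_finish

end Groth.Agent.Helper7.QFPure
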